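import Mathlib
import Groth.Agent.MonoQuotLib.Orbit
import Groth.Agent.TorsExtLib.Props
import Groth.Agent.AntiAffLib.Image

/-!
# Kernels of actions
-/

set_option autoImplicit false
set_option backward.isDefEq.respectTransparency false
universe u

open CategoryTheory CategoryTheory.Limits MonoidalCategory CartesianMonoidalCategory AlgebraicGeometry
open scoped MonObj

attribute [-instance] CategoryTheory.Hom.commGroup

noncomputable section

namespace Groth.Agent.ActKer

variable {S : Scheme.{u}} {G H Q N : Over S} [GrpObj G] [GrpObj N]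

/-- Lifting of points along a covering. -/
def LiftsLocally {A B : Over S} (p : A ⟶ B) : Prop :=
  ∀ (T : Over S) (x : T ⟶ B), ∃ (T' : Over S) (c : T' ⟶ T) (e : T' ⟶ A), Epi c ∧ e ≫ p = c ≫ x

theorem liftsLocally_of_cover {A B W : Over S} (p : A ⟶ B) (q : W ⟶ B) [Flat q.left] [Surjective q.left]
    [LocallyOfFinitePresentation q.left] (l : W ⟶ A) (hl : l ≫ p = q) : LiftsLocally p := by
  intro T x
  have sq := (IsPullback.of_hasPullback x q).map (Over.forget S)
  haveI : Flat (pullback.fst x q).left := MorphismProperty.of_isPullback sq.flip ‹Flat q.left›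
  haveI : Surjective (pullback.fst x q).left := MorphismProperty.of_isPullback (P := @Surjective) sq.flip ‹_›
  haveI : LocallyOfFinitePresentation (pullback.fst x q).left :=
    MorphismProperty.of_isPullback sq.flip ‹LocallyOfFinitePresentation q.left›
  exact ⟨_, pullback.fst x q, pullback.snd x q ≫ l, MonoQuot.epi_over _, by
    rw [Category.assoc, hl, pullback.condition]⟩

theorem liftsLocally_of_fppf {A B : Over S} (p : A ⟶ B) [Flat p.left] [Surjective p.left]
    [LocallyOfFinitePresentation p.left] : LiftsLocally p :=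
  liftsLocally_of_cover p p (𝟙 A) (Category.id_comp _)

variable (a : AlgGrp.Action G Q) (n : N ⟶ G)

/-- `n` is the kernel of the action. -/
def IsActionKernel : Prop :=
  ∀ (T : Over S) (g : T ⟶ G), (∃ m : T ⟶ N, m ≫ n = g) ↔
    ∀ (T' : Over S) (s : T' ⟶ T) (x : T' ⟶ Q), lift (s ≫ g) x ≫ a.act = x

variable {a n} (hN : IsActionKernel a n)

include hN in
omit [GrpObj N] in
theorem act_kernel {T : Over S} (m : T ⟶ N) (x : T ⟶ Q) : lift (m ≫ n) x ≫ a.act = x := by
  have := (hN T (m ≫ n)).1 ⟨m, rfl⟩ T (𝟙 T) x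
  rwa [Category.id_comp] at this

include hN in
theorem isNormalHom_kernel : AlgGrp.IsNormalHom n := by
  intro T g m
  obtain ⟨m', hm'⟩ := (hN T (g * (m ≫ n) * g⁻¹)).2 fun T' s x => by
    rw [MonObj.comp_mul, MonObj.comp_mul, GrpObj.comp_inv, ← Category.assoc s m n, MonoQuot.act_mul,
      MonoQuot.act_mul, act_kernel hN, ← MonoQuot.act_mul, mul_inv_cancel, MonoQuot.act_one]
  exact ⟨m', hm'.symm⟩

include hN in
/-- The kernel of the action on a homogeneous space is the core of the stabiliser. -/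
theorem kernel_core {o : 𝟙_ (Over S) ⟶ Q} (i : H ⟶ G)
    (sq : IsPullback (fst G H) ((G ◁ i) ≫ μ[G]) (a.orbitMap o) (a.orbitMap o))
    (hlift : LiftsLocally (a.orbitMap o)) :
    AlgGrp.IsNormalHom n ∧ (∃ f : N ⟶ H, f ≫ i = n) ∧
      ∀ (N' : Over S) [GrpObj N'] (n' : N' ⟶ G) [IsMonHom n'],
        AlgGrp.IsNormalHom n' → (∃ f : N' ⟶ H, f ≫ i = n') → ∃ f' : N' ⟶ N, f' ≫ n = n' := by
  have hsq : ∀ {T : Over S} (g : T ⟶ G) (h : T ⟶ H), (g * (h ≫ i)) ≫ a.orbitMap o = g ≫ a.orbitMap o := by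
    intro T g h
    have := congrArg (lift g h ≫ ·) sq.w
    simp only [lift_fst_assoc, MonoQuot.mulHom_eq] at this
    rw [this, ← Category.assoc, MonObj.comp_mul, lift_fst, lift_snd_assoc]
  refine ⟨isNormalHom_kernel hN, ?_, fun N' _ n' _ hn' ⟨f, hf⟩ => (hN N' n').2 fun T' s x => ?_⟩
  · have e : (1 : N ⟶ G) ≫ a.orbitMap o = n ≫ a.orbitMap o := by
      rw [MonoQuot.comp_orbitMap, MonoQuot.act_one, MonoQuot.comp_orbitMap, ← Category.id_comp n, act_kernel hN]
    obtain ⟨l, hl1, hl2⟩ : ∃ l, l ≫ fst G H = (1 : N ⟶ G) ∧ l ≫ (G ◁ i) ≫ μ[G] = n :=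
      ⟨sq.lift _ _ e, sq.lift_fst _ _ _, sq.lift_snd _ _ _⟩
    rw [MonoQuot.mulHom_eq, MonObj.comp_mul, hl1, _root_.one_mul, ← Category.assoc] at hl2
    exact ⟨_, hl2⟩
  · obtain ⟨T'', c, e, hc, he⟩ := hlift T' x
    haveI := hc
    rw [← cancel_epi c, ← Category.assoc, comp_lift, ← he, MonoQuot.comp_orbitMap a o e, ← MonoQuot.act_mul,
      ← MonoQuot.comp_orbitMap, ← Category.assoc c]
    obtain ⟨m, hm⟩ := hn' T'' e⁻¹ (c ≫ s)
    rw [inv_inv] at hm
    have key : ((c ≫ s) ≫ n') * e = e * ((m ≫ f) ≫ i) := by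
      rw [Category.assoc m, hf, ← hm, ← mul_assoc, mul_inv_cancel_left]
    rw [key, hsq, MonoQuot.comp_orbitMap]

end Groth.Agent.ActKer
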