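import Mathlib
import Groth.Agent.DensePtsLib.AlgClosed
import Groth.Agent.SemiAbLib.Points

/-!
# Surjectivity on points in an algebraically closed extension
-/

set_option autoImplicit false
set_option backward.isDefEq.respectTransparency false
universe u

open CategoryTheory CategoryTheory.Limits MonoidalCategory CartesianMonoidalCategory AlgebraicGeometry
open Groth.Agent.DensePts

noncomputable section

namespace Groth.Agent.ActKer

variable {k K : Type u} [Field k] [Field K] [Algebra k K] [IsAlgClosed K]

/-- A nonempty closed set has a point in an algebraically closed extension. -/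
theorem exists_point_closed {X : Over (Spec (CommRingCat.of k))} [LocallyOfFiniteType X.hom]
    {O : Set X.left} (hO : IsClosed O) (hne : O.Nonempty) : ∃ x : pt k K ⟶ X, ∀ q, x.left.base q ∈ O := by
  let ξ := Spec.map (CommRingCat.ofHom (algebraMap k K))
  let f : pullback X.hom ξ ⟶ Spec (CommRingCat.of K) := pullback.snd X.hom ξ
  haveI : Surjective (pullback.fst X.hom ξ) := MorphismProperty.pullback_fst (P := @Surjective) _ _ inferInstance
  haveI : LocallyOfFiniteType f := MorphismProperty.pullback_snd _ _ inferInstance
  haveI : JacobsonSpace ↥(pullback X.hom ξ) := LocallyOfFiniteType.jacobsonSpace f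
  obtain ⟨x, hx⟩ := hne
  obtain ⟨w, rfl⟩ := (pullback.fst X.hom ξ).surjective x
  have hO' : IsClosed ((pullback.fst X.hom ξ).base ⁻¹' O) := hO.preimage (pullback.fst X.hom ξ).continuous
  obtain ⟨p, hpO, hp⟩ := nonempty_inter_closedPoints (Z := (pullback.fst X.hom ξ).base ⁻¹' O) ⟨w, hx⟩ hO'.isLocallyClosed
  refine ⟨Over.homMk (pointOfClosedPoint f p hp ≫ pullback.fst X.hom ξ) ?_, fun q => ?_⟩
  · show (pointOfClosedPoint f p hp ≫ pullback.fst X.hom ξ) ≫ X.hom = ξ
    rw [Category.assoc, pullback.condition]
    exact (Category.assoc _ _ _).symm.trans (by rw [pointOfClosedPoint_comp, Category.id_comp])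
  · show (pointOfClosedPoint f p hp ≫ pullback.fst X.hom ξ).base q ∈ O
    rw [Scheme.Hom.comp_apply, pointOfClosedPoint_apply]
    exact hpO

/-- A morphism surjective on points in an algebraically closed extension is surjective. -/
theorem surjective_of_points {X Y : Over (Spec (CommRingCat.of k))} [LocallyOfFiniteType X.hom]
    [QuasiCompact X.hom] [LocallyOfFiniteType Y.hom] [QuasiCompact Y.hom] [IsSeparated Y.hom] (p : X ⟶ Y)
    (hp : ∀ b : pt k K ⟶ Y, ∃ a, a ≫ p = b) : Surjective p.left := by
  haveI : QuasiCompact (p.left ≫ Y.hom) := by rw [Over.w]; infer_instance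
  haveI : QuasiCompact p.left := QuasiCompact.of_comp p.left Y.hom
  haveI : LocallyOfFinitePresentation p.left := AntiAffLib.lfp_of_lft p
  haveI : JacobsonSpace Y.left := LocallyOfFiniteType.jacobsonSpace Y.hom
  haveI : IsLocallyNoetherian Y.left := LocallyOfFiniteType.isLocallyNoetherian Y.hom
  haveI : CompactSpace Y.left := QuasiCompact.compactSpace_of_compactSpace Y.hom
  haveI : CompactSpace X.left := QuasiCompact.compactSpace_of_compactSpace X.hom
  refine ⟨fun y => by_contra fun hy => ?_⟩
  have hc : Topology.IsConstructible (Set.range p.left)ᶜ := by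
    rw [← Set.image_univ]
    exact (p.left.isConstructible_image Topology.IsConstructible.univ).compl
  obtain ⟨x, hx, hxc⟩ := SemiAbLib.exists_closedPoint_of_isConstructible hc ⟨y, hy⟩
  obtain ⟨b, hb⟩ := exists_point_closed (K := K) hxc ⟨x, rfl⟩
  obtain ⟨a, rfl⟩ := hp b
  exact hx ⟨a.left (IsLocalRing.closedPoint K), (Set.mem_singleton_iff.1 (hb (IsLocalRing.closedPoint K)))⟩

/-- A surjection lifts points in an algebraically closed extension. -/
theorem exists_point_lift {X Y : Over (Spec (CommRingCat.of k))} [LocallyOfFiniteType X.hom]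
    [LocallyOfFiniteType Y.hom] (p : X ⟶ Y) [Surjective p.left] (b : pt k K ⟶ Y) : ∃ a, a ≫ p = b := by
  let f : pullback p.left b.left ⟶ Spec (CommRingCat.of K) := pullback.snd p.left b.left
  haveI : LocallyOfFiniteType (p.left ≫ Y.hom) := by rw [Over.w]; infer_instance
  haveI : LocallyOfFiniteType p.left := locallyOfFiniteType_of_comp p.left Y.hom
  haveI : LocallyOfFiniteType f := MorphismProperty.pullback_snd _ _ inferInstance
  haveI : Surjective f := MorphismProperty.pullback_snd (P := @Surjective) _ _ inferInstance
  haveI : JacobsonSpace ↥(pullback p.left b.left) := LocallyOfFiniteType.jacobsonSpace f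
  obtain ⟨w, -⟩ := f.surjective (IsLocalRing.closedPoint K)
  obtain ⟨q, -, hq⟩ := nonempty_inter_closedPoints (Z := (Set.univ : Set ↥(pullback p.left b.left))) ⟨w, trivial⟩
    isOpen_univ.isLocallyClosed
  let a₀ := pointOfClosedPoint f q hq ≫ pullback.fst p.left b.left
  have ha : a₀ ≫ p.left = b.left := by
    show (pointOfClosedPoint f q hq ≫ pullback.fst p.left b.left) ≫ p.left = b.left
    rw [Category.assoc, pullback.condition]
    exact (Category.assoc _ _ _).symm.trans (by rw [pointOfClosedPoint_comp, Category.id_comp])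
  exact ⟨Over.homMk a₀ (by rw [← Over.w p, ← Category.assoc, ha, Over.w b]), Over.OverMorphism.ext ha⟩

end Groth.Agent.ActKer
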